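import Mathlib
import Cfsg.Agent.S0205
import Cfsg.Agent.RankThree.Basic
import Cfsg.Agent.CAGroups.AbelianInvolutionSplit
import Cfsg.Agent.SL2.Basic

/-!
Centerless non-solvable groups without strict containment of centralizers are `SL₂(2ᶠ)`.
-/

set_option autoImplicit false
set_option linter.style.haveILetI false

namespace CfsgLib.RankFour

open CfsgLib.TwoSizes (cen mem_cen)
open CfsgLib.RankThree (cen_le_cen_pow)

universe u

variable {G : Type u} [Group G] [Finite G]

/-- No centralizer of a nonidentity element is strictly inside another one. -/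
def NoNest (G : Type u) [Group G] : Prop :=
  ∀ x z : G, x ≠ 1 → z ≠ 1 → cen x ≤ cen z → cen x = cen z

theorem NoNest.isMulCommutative_cen (h : NoNest G) {t : G} (ht : orderOf t = 2) :
    IsMulCommutative (cen t) := by
  have ht1 : t ≠ 1 := fun e => by rw [e, orderOf_one] at ht; omega
  have ht2 : t * t = 1 := by rw [← pow_two, ← ht, pow_orderOf_eq_one]
  have hpow : ∀ x : G, x ^ 2 ≠ 1 → cen x = cen (x ^ 2) := fun x hx =>
    h x (x ^ 2) (fun e => hx (by rw [e, one_pow])) hx (cen_le_cen_pow x 2)
  -- an element of order at least three and a commuting involution have the same centralizer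
  have key : ∀ a x : G, a * a ≠ 1 → x * x = 1 → x ≠ 1 → Commute a x → cen a = cen x := by
    intro a x ha hx hx1 hax
    have hsq : (x * a) ^ 2 = a ^ 2 := by rw [hax.symm.mul_pow, pow_two x, hx, one_mul]
    have ha2 : a ^ 2 ≠ 1 := by rwa [pow_two]
    have e1 : cen (x * a) = cen a := by
      rw [hpow (x * a) (hsq ▸ ha2), hsq, ← hpow a ha2]
    refine h a x (fun e => ha (by rw [e, one_mul])) hx1 fun g hg => mem_cen.2 ?_
    have h1 : Commute g (x * a) := mem_cen.1 (e1.symm ▸ hg)
    have h2 : Commute g a := mem_cen.1 hg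
    simpa using (h1.mul_right h2.inv_right).eq
  refine ⟨⟨fun g k => Subtype.ext ?_⟩⟩
  show (g : G) * k = k * g
  have hgt : Commute (g : G) t := mem_cen.1 g.2
  have hkt : Commute (k : G) t := mem_cen.1 k.2
  by_cases hg : (g : G) * g = 1
  · by_cases hk : (k : G) * k = 1
    · by_cases hgk : (g : G) * k * ((g : G) * k) = 1
      · have := eq_inv_of_mul_eq_one_left hgk
        rw [this, mul_inv_rev, inv_eq_of_mul_eq_one_right hg, inv_eq_of_mul_eq_one_right hk]
      · have e := key _ t hgk ht2 ht1 (hgt.mul_left hkt)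
        have h1 : (g : G) ∈ cen ((g : G) * k) := by rw [e]; exact g.2
        have h2 := mem_cen.1 h1
        rw [mul_assoc (g : G) k g] at h2
        exact mul_left_cancel h2
    · have e := key _ t hk ht2 ht1 hkt
      have h1 : (g : G) ∈ cen (k : G) := by rw [e]; exact g.2
      exact mem_cen.1 h1
  · have e := key _ t hg ht2 ht1 hgt
    have h1 : (k : G) ∈ cen (g : G) := by rw [e]; exact k.2
    exact (mem_cen.1 h1).symm

theorem isSolvable_of_solvable_quotient (N : Subgroup G) [N.Normal] (h1 : Group.IsSolvable N)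
    (h2 : Group.IsSolvable (G ⧸ N)) : Group.IsSolvable G := by
  haveI := h1
  haveI := h2
  exact Group.isSolvable_of_ker_le_range N.subtype (QuotientGroup.mk' N)
    (by rw [QuotientGroup.ker_mk', Subgroup.range_subtype])

/-- The free case. -/
theorem NoNest.exists_mulEquiv_sl2 (h : NoNest G) (hZ : Subgroup.center G = ⊥)
    (hns : ¬ Group.IsSolvable G) :
    ∃ (F : Type) (_ : Field F) (_ : Fintype F), CharP F 2 ∧
      Nonempty (G ≃* Matrix.SpecialLinearGroup (Fin 2) F) := by
  haveI : Fact (Nat.Prime 2) := ⟨Nat.prime_two⟩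
  have heven : Even (Nat.card G) := by
    by_contra hodd
    exact hns (Cfsg.Agent.S0205.result (Nat.not_even_iff_odd.1 hodd))
  obtain ⟨T⟩ : Nonempty (Sylow 2 G) := inferInstance
  have hcyc : ¬ IsCyclic (T : Subgroup G) := by
    intro hcyc
    have hmin : (Nat.card G).minFac = 2 := (Nat.minFac_eq_two_iff _).mpr (even_iff_two_dvd.mp heven)
    have hcompl := IsCyclic.isComplement' hmin hcyc
    set N := (MonoidHom.transferSylow T (hcyc.normalizer_le_centralizer hmin)).ker with hN
    refine hns (isSolvable_of_solvable_quotient N (Cfsg.Agent.S0205.result ?_) ?_)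
    · rw [Nat.odd_iff, ← Nat.two_dvd_ne_zero]
      exact MonoidHom.not_dvd_card_ker_transferSylow T _
    · haveI : Group.IsNilpotent (G ⧸ N) := by
        refine (IsPGroup.of_card (p := 2) (n := (Nat.card G).factorization 2) ?_).isNilpotent
        rw [← Subgroup.index_eq_card, hcompl.symm.index_eq_card, T.card_eq_multiplicity]
      infer_instance
  have hnor : ¬ (T : Subgroup G).Normal := by
    intro hn
    refine hns (isSolvable_of_solvable_quotient (T : Subgroup G) ?_ (Cfsg.Agent.S0205.result ?_))
    · haveI := T.isPGroup'.isNilpotent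
      infer_instance
    · rw [← Subgroup.index_eq_card, Nat.odd_iff, ← Nat.two_dvd_ne_zero]
      exact T.not_dvd_index
  have hyp : CfsgLib.CAGroups.AbelianCent.Hyp T :=
    ⟨hcyc, hnor, fun t ht => h.isMulCommutative_cen ht⟩
  obtain ⟨A, S⟩ := CfsgLib.CAGroups.AbelianCent.exists_split hyp
  obtain ⟨F, iF, iF', φ, hc, -, -, hφ, hker⟩ := S.sl2 hyp
  have hA : φ.ker = ⊥ := by
    rw [hker, eq_bot_iff, ← hZ]
    exact S.le_center
  exact ⟨F, iF, iF', hc, ⟨MulEquiv.ofBijective φ ⟨(MonoidHom.ker_eq_bot_iff φ).1 hA, hφ⟩⟩⟩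

end CfsgLib.RankFour
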