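import Mathlib
import Cfsg.Agent.S4033
import Cfsg.Agent.ThreeSizes.Star
import Cfsg.Agent.ClassSizes.CoprimeProduct
import Cfsg.Agent.PCompl.ClassSize
import Cfsg.Agent.GlaubermanZJ.AxB
import Cfsg.Agent.Constrained.Fitting

/-!
Lemmas for groups with few class sizes: solvability criteria and centralizers with primary elements of a
single class size.
-/

set_option autoImplicit false
set_option linter.style.haveILetI false

namespace CfsgLib.RankFour

open CfsgLib.TwoSizes (cen mem_cen cen_eq_top)
open CfsgLib.CoprimeLargest (idx)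

universe u

theorem isSolvable_of_nilpotent_index_aux {p : ℕ} (hp : p.Prime) (n : ℕ) :
    ∀ (G : Type u) [Group G] [Finite G], Nat.card G = n → ∀ H : Subgroup G, Group.IsNilpotent H →
      (∃ k, H.index = p ^ k) → Group.IsSolvable G := by
  induction n using Nat.strong_induction_on with
  | _ n ih =>
  intro G _ _ hn H hH hidx
  subst hn
  obtain ⟨k, hk⟩ := hidx
  by_cases hex : ∃ N : Subgroup G, N.Normal ∧ N ≠ ⊥ ∧ N ≠ ⊤
  · obtain ⟨N, hN, hb, ht⟩ := hex
    have hprod : Nat.card G = Nat.card (G ⧸ N) * Nat.card N := N.card_eq_card_quotient_mul_card_subgroup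
    have h1 : 1 < Nat.card N := (Subgroup.one_lt_card_iff_ne_bot N).mpr hb
    have h2 : 1 < Nat.card (G ⧸ N) := by
      have h0 : N.index ≠ 1 := fun h => ht (Subgroup.index_eq_one.mp h)
      have h0' : N.index ≠ 0 := N.index_ne_zero_of_finite
      rw [← Subgroup.index_eq_card]
      omega
    have hNs : Group.IsSolvable N := by
      refine ih _ (by rw [hprod]; nlinarith) N rfl (H.subgroupOf N) ?_ ?_
      · haveI := hH
        let f : H.subgroupOf N →* H :=
          { toFun := fun a => ⟨((a : N) : G), a.2⟩, map_one' := rfl, map_mul' := fun _ _ => rfl }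
        have hf : f.ker = ⊥ := (MonoidHom.ker_eq_bot_iff f).2 fun a b e =>
          Subtype.ext (Subtype.ext (congrArg (fun z : H => (z : G)) e :))
        exact Subgroup.isNilpotent_of_ker_le_center f (hf ▸ bot_le)
      · obtain ⟨t, -, ht⟩ := (Nat.dvd_prime_pow hp).mp
          (hk ▸ CfsgLib.PCompl.relIndex_dvd_index_of_normal H N)
        exact ⟨t, ht⟩
    have hQs : Group.IsSolvable (G ⧸ N) := by
      haveI := hH
      refine ih _ (by rw [hprod]; nlinarith) (G ⧸ N) rfl (H.map (QuotientGroup.mk' N))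
        (Group.nilpotent_of_surjective _ ((QuotientGroup.mk' N).subgroupMap_surjective H)) ?_
      obtain ⟨t, -, ht⟩ := (Nat.dvd_prime_pow hp).mp
        (hk ▸ H.index_map_dvd (QuotientGroup.mk'_surjective N))
      exact ⟨t, ht⟩
    exact Group.isSolvable_of_ker_le_range N.subtype (QuotientGroup.mk' N)
      (by rw [QuotientGroup.ker_mk', Subgroup.range_subtype])
  push Not at hex
  by_cases hab : IsMulCommutative G
  · exact Group.isSolvable_of_comm fun a b => mul_comm' a b
  haveI : Fact p.Prime := ⟨hp⟩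
  by_cases hbot : H = ⊥
  · rw [hbot, Subgroup.index_bot] at hk
    haveI := (IsPGroup.of_card hk).isNilpotent
    infer_instance
  haveI := hH
  haveI : Nontrivial H := (Subgroup.nontrivial_iff_ne_bot H).2 hbot
  haveI : Nontrivial (Subgroup.center H) :=
    (Subgroup.nontrivial_iff_ne_bot _).2 (Group.IsNilpotent.center_ne_bot H)
  obtain ⟨⟨⟨x, hxH⟩, hxc⟩, hx1⟩ :=
    exists_ne (α := Subgroup.center H) 1
  have hx1' : x ≠ 1 := fun e => hx1 (Subtype.ext (Subtype.ext e))
  haveI : Nontrivial G := ⟨⟨x, 1, hx1'⟩⟩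
  haveI : IsSimpleGroup G := ⟨fun N hN => or_iff_not_imp_left.mpr fun hb => hex N hN hb⟩
  have hle : H ≤ Subgroup.centralizer ({x} : Set G) := fun y hy =>
    Subgroup.mem_centralizer_singleton_iff.mpr
      (congrArg Subtype.val (Subgroup.mem_center_iff.1 hxc ⟨y, hy⟩))
  obtain ⟨t, -, ht⟩ := (Nat.dvd_prime_pow hp).mp (hk ▸ Subgroup.index_dvd_of_le hle)
  exact absurd ht (CfsgLib.Chars.Apps.not_prime_pow_index_centralizer_of_isSimpleGroup hab hp x hx1')

/-- A group with a nilpotent subgroup of prime power index is solvable. -/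
theorem isSolvable_of_nilpotent_index {G : Type u} [Group G] [Finite G] {p : ℕ} (hp : p.Prime)
    (H : Subgroup G) (hH : Group.IsNilpotent H) (hidx : ∃ k, H.index = p ^ k) : Group.IsSolvable G :=
  isSolvable_of_nilpotent_index_aux hp _ G rfl H hH hidx

variable {G : Type u} [Group G] [Finite G]

/-- All elements of order prime to `p` central: the group is nilpotent. -/
theorem isNilpotent_of_regular_central {p : ℕ} (hp : p.Prime)
    (h : ∀ u : G, (orderOf u).Coprime p → u ∈ Subgroup.center G) : Group.IsNilpotent G := by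
  haveI : Fact p.Prime := ⟨hp⟩
  refine Group.of_quotient_center_nilpotent (IsPGroup.isNilpotent (p := p) fun x => ?_)
  obtain ⟨g, rfl⟩ := QuotientGroup.mk_surjective x
  obtain ⟨a, m, hm, he⟩ := Nat.exists_eq_pow_mul_and_not_dvd (orderOf_pos g).ne' p hp.ne_one
  refine ⟨a, ?_⟩
  rw [← QuotientGroup.mk_pow]
  refine (QuotientGroup.eq_one_iff _).2 (h _ ?_)
  rw [orderOf_pow_of_dvd (pow_ne_zero a hp.ne_zero) (he ▸ dvd_mul_right _ _), he,
    Nat.mul_div_cancel_left _ (pow_pos hp.pos a)]
  exact (hp.coprime_iff_not_dvd.mpr hm).symm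

/-- The `p`-regular classes have at most two sizes: the group is solvable. -/
theorem isSolvable_of_regular_sizes {p k : ℕ} (hp : p.Prime)
    (h : ∀ u : G, (orderOf u).Coprime p → idx u = 1 ∨ idx u = k) : Group.IsSolvable G := by
  by_cases hall : ∀ u : G, (orderOf u).Coprime p → idx u = 1
  · exact CfsgLib.PCompl.RegPow.isSolvable hp _ G rfl fun u hu => ⟨0, by rw [pow_zero]; exact hall u hu⟩
  push Not at hall
  obtain ⟨w, hw, hw1⟩ := hall
  have hwk : idx w = k := (h w hw).resolve_left hw1
  have hk1 : k ≠ 1 := hwk ▸ hw1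
  have hrange : Set.range (fun x : {x : G // (orderOf x).Coprime p} =>
      (ConjClasses.mk (x : G)).carrier.ncard) = {1, k} := by
    ext n
    simp only [Set.mem_range, Set.mem_insert_iff, Set.mem_singleton_iff]
    constructor
    · rintro ⟨⟨x, hx⟩, rfl⟩
      rw [CfsgLib.PCompl.carrier_ncard]
      exact h x hx
    · rintro (rfl | rfl)
      · refine ⟨⟨1, by simp⟩, ?_⟩
        rw [CfsgLib.PCompl.carrier_ncard]
        exact Subgroup.index_eq_one.2 (cen_eq_top (one_mem _))
      · exact ⟨⟨w, hw⟩, (CfsgLib.PCompl.carrier_ncard w).trans hwk⟩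
  rcases Cfsg.Agent.S4033.result hp (by rw [hrange]; exact Set.ncard_pair hk1.symm) with
    ⟨H, hab, hH1, hH2⟩ | ⟨q, hq, P, Q, A, -, hAZ, hcard, hnor, hinf, hsup⟩
  · exact CfsgLib.PCompl.isSolvable_of_commutative_pCompl hp _ G rfl H hab ⟨hH1, hH2⟩
  · haveI := hnor
    haveI : Fact p.Prime := ⟨hp⟩
    haveI : A.Normal := ⟨fun x hx g => by
      rw [Subgroup.mem_center_iff.1 (hAZ hx) g, mul_inv_cancel_right]; exact hx⟩
    have hidx : A.index = Nat.card P * Nat.card Q := by
      rw [← hcard]
      refine (Subgroup.isComplement'_of_disjoint_and_mul_eq_univ (disjoint_iff.2 hinf) ?_).index_eq_card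
      rw [← Subgroup.normal_mul, hsup, Subgroup.coe_top]
    refine CfsgLib.ThreeSizes.isSolvable_of_two_primes hp hq.out fun r hr x hx hxZ => ?_
    by_contra hne
    push Not at hne
    refine hxZ (hAZ (CfsgLib.ThreeSizes.mem_of_coprime_index (Nat.Coprime.symm ?_)))
    rw [hidx, P.card_eq_multiplicity, Q.card_eq_multiplicity]
    obtain ⟨j, hj⟩ := CfsgLib.ThreeSizes.isEl_orderOf hr hx
    rw [hj]
    exact ((((Nat.coprime_primes hp hr).2 hne.1.symm).pow _ _).mul_left
      (((Nat.coprime_primes hq.out hr).2 hne.2.symm).pow _ _))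

/-- `u` is an element of prime power order. -/
def Primary (u : G) : Prop := ∃ r k : ℕ, r.Prime ∧ u ^ r ^ k = 1

/-- A solvable group whose primary elements have one class size `k` besides `1`, where `k` is no prime
power, is abelian. -/
theorem isMulCommutative_of_primary_sizes [Group.IsSolvable G] {k : ℕ}
    (h : ∀ u : G, Primary u → idx u = 1 ∨ idx u = k)
    (hk : ∀ r : ℕ, ∃ b : ℕ, b.Prime ∧ b ∣ k ∧ b ≠ r) : IsMulCommutative G := by
  have hcore : ∀ r : ℕ, r.Prime → Cfsg.pCore r G ≤ Subgroup.center G := by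
    intro r hr u hu
    haveI := Fact.mk hr
    obtain ⟨b, hb, hbk, hbr⟩ := hk r
    haveI := Fact.mk hb
    have hRp : IsPGroup r (Cfsg.pCore r G) := CfsgLib.LocalP.isPGroup_pCore
    haveI : (Cfsg.pCore r G).Normal := Cfsg.pCore_normal r G
    obtain ⟨B⟩ : Nonempty (Sylow b G) := inferInstance
    have hpcen : ∀ w : G, idx w = 1 → w ∈ Subgroup.center G := fun w hw =>
      Subgroup.mem_center_iff.2 fun g => mem_cen.1 ((Subgroup.index_eq_one.1 hw).ge (Subgroup.mem_top g))
    have key : ∀ v ∈ (B : Subgroup G), Subgroup.zpowers v ≤ Subgroup.centralizer (Cfsg.pCore r G : Set G) := by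
      intro v hv
      have hvb : ∃ j, v ^ b ^ j = 1 := CfsgLib.TwoRegular.IsEl.of_mem_pGroup B.isPGroup' hv
      rcases h v ⟨b, _, hb, hvb.choose_spec⟩ with hv1 | hv1
      · refine Subgroup.zpowers_le.2 (Subgroup.mem_centralizer_iff.2 fun y _ => ?_)
        exact Subgroup.mem_center_iff.1 (hpcen v hv1) y
      obtain ⟨P, hPC, hPp, hPc⟩ := CfsgLib.TwoRegular.exists_sylow_card (r := r) (cen v)
      refine CfsgLib.GlaubermanZJ.thompson_axb hRp hPp Subgroup.le_normalizer_of_normal
        Subgroup.le_normalizer_of_normal (Subgroup.zpowers_le.2 (Subgroup.mem_centralizer_iff.2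
          fun y hy => mem_cen.1 (hPC hy))) ?_ ?_
      · rw [Nat.card_zpowers]
        obtain ⟨j, hj⟩ := hvb
        exact Nat.Coprime.coprime_dvd_left (orderOf_dvd_of_pow_eq_one hj)
          (((Nat.coprime_primes hb hr).2 hbr).pow_left j)
      · rintro w ⟨hw, hwP⟩
        have hwC : Commute v w := by
          obtain ⟨j, hj⟩ := hRp ⟨w, hw⟩
          rcases h w ⟨r, j, hr, congrArg Subtype.val hj⟩ with hw1 | hw1
          · exact Subgroup.mem_center_iff.1 (hpcen w hw1) v
          have hPw : P ≤ cen w := fun y hy => mem_cen.2 (Subgroup.mem_centralizer_iff.1 hwP y hy)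
          have hcard : Nat.card (cen w) = Nat.card (cen v) := by
            have e1 := (cen w).card_mul_index
            have e2 := (cen v).card_mul_index
            change Nat.card (cen w) * idx w = _ at e1
            change Nat.card (cen v) * idx v = _ at e2
            rw [hw1, ← e2, hv1] at e1
            exact Nat.eq_of_mul_eq_mul_right
              (Nat.pos_of_ne_zero (hv1 ▸ Subgroup.index_ne_zero_of_finite)) e1
          have hcomm : Subgroup.zpowers w ≤ Subgroup.normalizer (P : Set G) :=
            Subgroup.zpowers_le.2 (Subgroup.centralizer_le_normalizer _ hwP)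
          have hsup : IsPGroup r (P ⊔ Subgroup.zpowers w : Subgroup G) :=
            hPp.to_sup_of_normal_left' (hRp.to_le (Subgroup.zpowers_le.2 hw)) hcomm
          have hle : (P ⊔ Subgroup.zpowers w : Subgroup G) ≤ cen w :=
            sup_le hPw (Subgroup.zpowers_le.2 (mem_cen.2 rfl))
          have heq : P = P ⊔ Subgroup.zpowers w := Subgroup.eq_of_le_of_card_ge le_sup_left (by
            have := CfsgLib.TwoRegular.card_le_of_pGroup hsup hle
            rwa [hcard, ← hPc] at this)
          have hwmem : w ∈ P := heq ▸ Subgroup.mem_sup_right (Subgroup.mem_zpowers w)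
          exact (mem_cen.1 (hPC hwmem) : Commute w v).symm
        refine Subgroup.mem_centralizer_iff.2 fun y hy => ?_
        obtain ⟨i, rfl⟩ := Subgroup.mem_zpowers_iff.1 hy
        exact (hwC.zpow_left i).eq
    obtain ⟨j, hj⟩ := hRp ⟨u, hu⟩
    rcases h u ⟨r, j, hr, congrArg Subtype.val hj⟩ with h1 | h1
    · exact hpcen u h1
    · exfalso
      have hB : (B : Subgroup G) ≤ cen u := fun v hv =>
        mem_cen.2 ((Subgroup.mem_centralizer_iff.1 (key v hv (Subgroup.mem_zpowers v)) u hu).symm)
      exact B.not_dvd_index ((hbk.trans (dvd_of_eq h1.symm)).trans (Subgroup.index_dvd_of_le hB))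
  have hF : Cfsg.fittingSubgroup G ≤ Subgroup.center G := by
    rw [CfsgLib.Constrained.fitting_eq_iSup_pCore]
    exact iSup₂_le hcore
  have htop : ∀ g : G, g ∈ Subgroup.center G := fun g =>
    hF (CfsgLib.Constrained.centralizer_fitting_le (Subgroup.mem_centralizer_iff.2
      fun y hy => (Subgroup.mem_center_iff.1 (hF hy) g).symm))
  exact ⟨⟨fun a b => Subgroup.mem_center_iff.1 (htop b) a⟩⟩

end CfsgLib.RankFour
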