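import Mathlib
import Cfsg.Agent.RankFour.Tools
import Cfsg.Agent.RankFour.Free

/-!
Centerless groups with at most three sizes of nontrivial classes.
-/

set_option autoImplicit false
set_option linter.style.haveILetI false

namespace CfsgLib.RankFour

open CfsgLib.TwoSizes (cen mem_cen cen_eq_top)
open CfsgLib.CoprimeLargest (idx)
open CfsgLib.RankThree (cen_le_cen_pow idx_dvd_of_le cen_eq_of_le_of_idx cen_mul_eq_inf card_mul_idx
  exists_central_in_sylow)

universe u

variable {G : Type u} [Group G] [Finite G]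

/-- The class size of `u` inside the centralizer of a commuting element of coprime order. -/
theorem idx_mul_eq {y : G} {u : cen y} (hco : (orderOf y).Coprime (orderOf (u : G))) :
    idx (y * (u : G)) = idx u * idx y := by
  have hc : Commute y (u : G) := (mem_cen.1 u.2).symm
  have e : cen u = (cen (u : G)).subgroupOf (cen y) := by
    ext v
    rw [Subgroup.mem_subgroupOf, mem_cen, mem_cen, Subtype.ext_iff, Subgroup.coe_mul, Subgroup.coe_mul]
  change (cen (y * (u : G))).index = (cen u).index * (cen y).index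
  rw [cen_mul_eq_inf hc hco, e, inf_comm, ← Subgroup.relIndex_mul_index
    (inf_le_right : cen (u : G) ⊓ cen y ≤ cen y), Subgroup.inf_relIndex_right]
  rfl

theorem idx_ne_zero (x : G) : idx x ≠ 0 := Subgroup.index_ne_zero_of_finite

/-- Two sizes among those divisible by `n`: the classes of regular elements of such a centralizer. -/
theorem idx_in_cen {n m : ℕ} (hnm : n ∣ m) (hsz : ∀ x : G, x ≠ 1 → n ∣ idx x → idx x = n ∨ idx x = m)
    {y : G} (hy : idx y = n) (hy1 : y ≠ 1) {u : cen y} (hco : (orderOf y).Coprime (orderOf (u : G))) :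
    idx u = 1 ∨ idx u = m / n := by
  have e := idx_mul_eq hco
  have hn0 : 0 < n := hy ▸ Nat.pos_of_ne_zero (idx_ne_zero y)
  rw [hy] at e
  have hne : y * (u : G) ≠ 1 :=
    CfsgLib.RankThree.mul_ne_one_of_coprime (mem_cen.1 u.2).symm hco hy1
  rcases hsz _ hne (e ▸ dvd_mul_left n _) with h | h <;> rw [e] at h
  · exact Or.inl (Nat.eq_of_mul_eq_mul_right hn0 (h.trans (one_mul n).symm))
  · exact Or.inr (by rw [← h, Nat.mul_div_cancel _ hn0])

/-- The centralizer of an element of prime order of size `n` is solvable. -/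
theorem isSolvable_cen {n m : ℕ} (hnm : n ∣ m)
    (hsz : ∀ x : G, x ≠ 1 → n ∣ idx x → idx x = n ∨ idx x = m)
    {y : G} (hyp : (orderOf y).Prime) (hy : idx y = n) : Group.IsSolvable (cen y) :=
  isSolvable_of_regular_sizes (k := m / n) hyp fun u hu =>
    idx_in_cen hnm hsz hy (fun e => hyp.ne_one (by rw [e, orderOf_one]))
      (by rw [Subgroup.orderOf_coe]; exact hu.symm)

/-- All but one prime of the largest size divide `n`. -/
theorem exists_prime_bound {n m : ℕ} (hnm : n ∣ m) (hlt : n < m)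
    (hsz : ∀ x : G, x ≠ 1 → n ∣ idx x → idx x = n ∨ idx x = m)
    (hdn : ∀ x : G, x ≠ 1 → idx x ∣ n → idx x = n) {a : G} (ha : idx a = m)
    {y : G} (hyp : (orderOf y).Prime) (hy : idx y = n) (hna : ¬ IsMulCommutative (cen y)) :
    ∃ s : ℕ, s.Prime ∧ ∀ l : ℕ, l.Prime → l ∣ m → l ∣ n ∨ l = s := by
  set p := orderOf y with hp
  have hy1 : y ≠ 1 := fun e => hyp.ne_one (by rw [hp, e, orderOf_one])
  haveI := Fact.mk hyp
  haveI : Group.IsSolvable (cen y) := isSolvable_cen hnm hsz hyp hy
  have hn0 : 0 < n := hy ▸ Nat.pos_of_ne_zero (idx_ne_zero y)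
  set k := m / n with hk
  have hmk : n * k = m := Nat.mul_div_cancel' hnm
  by_cases hall : ∀ l : ℕ, l.Prime → l ∣ m → l ∣ n ∨ l = p
  · exact ⟨p, hyp, hall⟩
  push Not at hall
  obtain ⟨l, hl, hlm, hln, hlp⟩ := hall
  haveI := Fact.mk hl
  have hlk : l ∣ k := ((hl.dvd_mul).1 (hmk.symm ▸ hlm : l ∣ n * k)).resolve_left hln
  have hlC : l ∣ Nat.card (cen y) := by
    have h1 : l ∣ Nat.card G := (ha ▸ hlm : l ∣ idx a).trans (Subgroup.index_dvd_card _)
    rw [← card_mul_idx y, hy] at h1
    exact ((hl.dvd_mul).1 h1).resolve_right hln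
  obtain ⟨z, hz, -, hzd⟩ := exists_central_in_sylow (G := cen y) (R := ⊥) IsPGroup.of_bot hlC
  have hz1 : (z : G) ≠ 1 := fun e => hl.ne_one (by rw [← hz, ← Subgroup.orderOf_coe, e, orderOf_one])
  have hzc : idx z = 1 := (idx_in_cen hnm hsz hy hy1 (u := z) (by
    rw [Subgroup.orderOf_coe, hz]; exact (Nat.coprime_primes hyp hl).2 (Ne.symm hlp))).resolve_right
      fun e => hzd (e ▸ hlk)
  have hle : cen y ≤ cen (z : G) := fun v hv => mem_cen.2 (congrArg Subtype.val
    (mem_cen.1 ((Subgroup.index_eq_one.1 hzc).ge (Subgroup.mem_top (⟨v, hv⟩ : cen y)))))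
  have hzn : idx (z : G) = n := hdn _ hz1 (hy ▸ idx_dvd_of_le hle)
  have hcz : cen y = cen (z : G) := cen_eq_of_le_of_idx hle (hy.trans hzn.symm)
  have hprim : ∀ u : cen y, Primary u → idx u = 1 ∨ idx u = k := by
    rintro u ⟨r, j, hr, hj⟩
    have hd : orderOf (u : G) ∣ r ^ j := by
      rw [Subgroup.orderOf_coe]; exact orderOf_dvd_of_pow_eq_one hj
    by_cases hrp : r = p
    · have hco : (orderOf (z : G)).Coprime (orderOf (u : G)) := by
        rw [Subgroup.orderOf_coe, hz]
        exact (((Nat.coprime_primes hl hr).2 (hrp ▸ hlp)).pow_right j).coprime_dvd_right hd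
      let u' : cen (z : G) := ⟨u, hcz ▸ u.2⟩
      have e : idx u' = idx u := by
        have h1 : cen u' = (cen (u : G)).subgroupOf (cen (z : G)) := by
          ext v
          rw [Subgroup.mem_subgroupOf, mem_cen, mem_cen, Subtype.ext_iff, Subgroup.coe_mul, Subgroup.coe_mul]
        have h2 : cen u = (cen (u : G)).subgroupOf (cen y) := by
          ext v
          rw [Subgroup.mem_subgroupOf, mem_cen, mem_cen, Subtype.ext_iff, Subgroup.coe_mul, Subgroup.coe_mul]
        change (cen u').index = (cen u).index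
        rw [h1, h2]
        exact congrArg (fun X => (cen (u : G)).relIndex X) hcz.symm
      have h3 := idx_in_cen hnm hsz hzn hz1 (u := u') hco
      rwa [e] at h3
    · exact idx_in_cen hnm hsz hy hy1
        ((((Nat.coprime_primes hyp hr).2 (Ne.symm hrp)).pow_right j).coprime_dvd_right hd)
  by_contra hcon
  push Not at hcon
  refine hna (isMulCommutative_of_primary_sizes hprim fun r => ?_)
  by_cases hr : r.Prime
  · obtain ⟨b, hb, hbm, hbn, hbr⟩ := hcon r hr
    exact ⟨b, hb, ((hb.dvd_mul).1 (hmk.symm ▸ hbm : b ∣ n * k)).resolve_left hbn, hbr⟩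
  · exact ⟨l, hl, hlk, fun e => hr (e ▸ hl)⟩

/-- The elements of size prime to `g` are covered by the conjugates of the centralizer of a Sylow
`g`-subgroup. -/
theorem card_cover_le {g : ℕ} [Fact g.Prime] (S : Sylow g G) :
    {x : G | x ≠ 1 ∧ ¬ g ∣ idx x}.ncard ≤ (Subgroup.normalizer ((S : Subgroup G) : Set G)).index *
      (Nat.card (Subgroup.centralizer (S : Set G)) - 1) := by
  classical
  set N := Subgroup.normalizer ((S : Subgroup G) : Set G) with hNdef
  set C := Subgroup.centralizer (S : Set G) with hCdef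
  have hCN : C ≤ N := Subgroup.centralizer_le_normalizer _
  let f : (G ⧸ N) × {c : C // c ≠ 1} → G := fun v => v.1.out * ((v.2 : C) : G) * v.1.out⁻¹
  have hsub : {x : G | x ≠ 1 ∧ ¬ g ∣ idx x} ⊆ Set.range f := by
    rintro x ⟨hx1, hx⟩
    obtain ⟨P, hPC, hPp, hPc⟩ := CfsgLib.TwoRegular.exists_sylow_card (r := g) (cen x)
    have hcard : Nat.card P = g ^ (Nat.card G).factorization g := by
      rw [hPc, ← card_mul_idx x, Nat.factorization_mul Nat.card_pos.ne' (idx_ne_zero x),
        Finsupp.add_apply, Nat.factorization_eq_zero_of_not_dvd hx, add_zero]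
    obtain ⟨c, hc⟩ := MulAction.exists_smul_eq G S (Sylow.ofCard P hcard)
    have hmem : ∀ v ∈ (S : Subgroup G), c * v * c⁻¹ ∈ P := fun v hv => by
      have : (c • S : Sylow g G) = Sylow.ofCard P hcard := hc
      have h1 : ((c • S : Sylow g G) : Subgroup G) = P := by rw [this]; rfl
      rw [← h1, Sylow.coe_subgroup_smul, Subgroup.mem_pointwise_smul_iff_inv_smul_mem]
      simpa [mul_assoc] using hv
    have hxC : c⁻¹ * x * c ∈ C := Subgroup.mem_centralizer_iff.2 fun v hv => by
      have h1 : c * v * c⁻¹ * x = x * (c * v * c⁻¹) := mem_cen.1 (hPC (hmem v hv))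
      calc v * (c⁻¹ * x * c) = c⁻¹ * (c * v * c⁻¹ * x) * c := by group
        _ = c⁻¹ * (x * (c * v * c⁻¹)) * c := by rw [h1]
        _ = _ := by group
    obtain ⟨n, hn⟩ := QuotientGroup.mk_out_eq_mul N c
    have hn' : (n : G) * ((n : G)⁻¹ * (c⁻¹ * x * c) * n) * (n : G)⁻¹ = c⁻¹ * x * c := by group
    have hmemC : (n : G)⁻¹ * (c⁻¹ * x * c) * n ∈ C := by
      refine Subgroup.mem_centralizer_iff.2 fun v hv => ?_
      have h1 := Subgroup.mem_centralizer_iff.1 hxC _ ((Subgroup.mem_normalizer_iff.1 n.2 v).1 hv)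
      calc v * ((n : G)⁻¹ * (c⁻¹ * x * c) * n) = (n : G)⁻¹ * ((n : G) * v * (n : G)⁻¹ * (c⁻¹ * x * c)) * n := by
            group
        _ = (n : G)⁻¹ * ((c⁻¹ * x * c) * ((n : G) * v * (n : G)⁻¹)) * n := by rw [h1]
        _ = _ := by group
    refine ⟨(⟦c⟧, ⟨⟨_, hmemC⟩, fun e => hx1 ?_⟩), ?_⟩
    · have e' : (n : G)⁻¹ * (c⁻¹ * x * c) * n = 1 := congrArg Subtype.val e
      calc x = c * ((n : G) * ((n : G)⁻¹ * (c⁻¹ * x * c) * n) * (n : G)⁻¹) * c⁻¹ := by group
        _ = 1 := by rw [e']; group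
    · show (⟦c⟧ : G ⧸ N).out * ((n : G)⁻¹ * (c⁻¹ * x * c) * n) * (⟦c⟧ : G ⧸ N).out⁻¹ = x
      erw [hn]
      group
  refine (Set.ncard_le_ncard hsub).trans ?_
  rw [← Set.image_univ]
  refine (Set.ncard_image_le).trans ?_
  rw [Set.ncard_univ, Nat.card_prod]
  refine Nat.mul_le_mul (le_of_eq rfl) ?_
  have := Fintype.ofFinite C
  rw [Nat.card_eq_fintype_card, Nat.card_eq_fintype_card, Fintype.card_subtype_compl,
    Fintype.card_subtype_eq]

/-- When the normalizer is bigger than the centralizer these elements fill less than half of the group. -/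
theorem card_cover_lt {g : ℕ} [Fact g.Prime] (S : Sylow g G)
    (hN : ¬ Subgroup.normalizer ((S : Subgroup G) : Set G) ≤ Subgroup.centralizer (S : Set G)) :
    2 * {x : G | x ≠ 1 ∧ ¬ g ∣ idx x}.ncard + 2 ≤ Nat.card G := by
  set N := Subgroup.normalizer ((S : Subgroup G) : Set G) with hNdef
  set C := Subgroup.centralizer (S : Set G) with hCdef
  have hCN : C ≤ N := Subgroup.centralizer_le_normalizer _
  have h1 := card_cover_le S
  have h2 : 2 * Nat.card C ≤ Nat.card N := by
    have e := Subgroup.relIndex_mul_relIndex ⊥ C N bot_le hCN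
    rw [Subgroup.relIndex_bot_left, Subgroup.relIndex_bot_left] at e
    have hr : C.relIndex N ≠ 1 := fun h => hN (Subgroup.relIndex_eq_one.1 h)
    have hr0 : C.relIndex N ≠ 0 := fun h => by
      rw [h, mul_zero] at e; exact Nat.card_pos.ne e
    rw [← e, mul_comm 2]
    exact Nat.mul_le_mul_left _ (by omega)
  have hC1 : 0 < Nat.card C := Nat.card_pos
  have hN0 : 0 < N.index := Nat.pos_of_ne_zero Subgroup.index_ne_zero_of_finite
  calc 2 * {x : G | x ≠ 1 ∧ ¬ g ∣ idx x}.ncard + 2 ≤ 2 * (N.index * (Nat.card C - 1)) + 2 * N.index :=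
        Nat.add_le_add (Nat.mul_le_mul_left 2 h1) (by omega)
    _ = N.index * (2 * Nat.card C) := by
        rw [← mul_add, ← Nat.mul_add_one, Nat.sub_add_cancel hC1, mul_left_comm]
    _ ≤ N.index * Nat.card N := Nat.mul_le_mul_left _ h2
    _ = Nat.card G := by rw [mul_comm, N.card_mul_index]

/-- With trivial centre every prime divisor of the order divides a class size. -/
theorem exists_dvd_idx (hZ : Subgroup.center G = ⊥) {g : ℕ} (hg : g.Prime) (hd : g ∣ Nat.card G) :
    ∃ x : G, x ≠ 1 ∧ g ∣ idx x := by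
  haveI := Fact.mk hg
  by_contra hno
  push Not at hno
  obtain ⟨S⟩ : Nonempty (Sylow g G) := inferInstance
  set C := Subgroup.centralizer (S : Set G) with hC
  have h1 : ({x : G | x ≠ 1} : Set G).ncard + 1 = Nat.card G := by
    rw [show ({x : G | x ≠ 1} : Set G) = ({1} : Set G)ᶜ from rfl, ← Set.ncard_add_ncard_compl ({1} : Set G),
      Set.ncard_singleton, add_comm]
  have h2 : ({x : G | x ≠ 1} : Set G).ncard ≤ C.index * (Nat.card C - 1) :=
    (Set.ncard_le_ncard (t := {x : G | x ≠ 1 ∧ ¬ g ∣ idx x}) fun x hx => ⟨hx, hno x hx⟩).trans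
      ((card_cover_le S).trans (Nat.mul_le_mul_right _ (Nat.le_of_dvd
        (Nat.pos_of_ne_zero Subgroup.index_ne_zero_of_finite)
        (Subgroup.index_dvd_of_le (Subgroup.centralizer_le_normalizer _)))))
  rw [Nat.mul_sub_one] at h2
  have h3 := C.card_mul_index
  rw [mul_comm] at h3
  have h0 := C.index_ne_zero_of_finite
  have h4 : C.index = 1 := by
    have : C.index ≤ C.index * Nat.card C := Nat.le_mul_of_pos_right _ Nat.card_pos
    omega
  refine Sylow.ne_bot_of_dvd_card S hd (le_bot_iff.1 (hZ ▸ fun v hv => ?_))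
  exact Subgroup.mem_center_iff.2 fun u =>
    (Subgroup.mem_centralizer_iff.1 ((Subgroup.index_eq_one.1 h4).ge (Subgroup.mem_top u)) v hv).symm

/-- If every class size is prime to `g` or prime to `l`, one of the two primes does not divide the
order of the derived subgroup. -/
theorem not_dvd_commutator {g l : ℕ} (hg : g.Prime) (hl : l.Prime)
    (hcov : ∀ x : G, x ≠ 1 → ¬ g ∣ idx x ∨ ¬ l ∣ idx x) :
    ¬ g ∣ Nat.card (commutator G) ∨ ¬ l ∣ Nat.card (commutator G) := by
  by_contra hcon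
  push Not at hcon
  haveI := Fact.mk hg
  haveI := Fact.mk hl
  have key : ∀ (r : ℕ) [Fact r.Prime], r ∣ Nat.card (commutator G) →
      2 * {x : G | x ≠ 1 ∧ ¬ r ∣ idx x}.ncard + 2 ≤ Nat.card G := by
    intro r _ hd
    obtain ⟨S⟩ : Nonempty (Sylow r G) := inferInstance
    refine card_cover_lt S fun hle => ?_
    haveI : IsMulCommutative (S : Subgroup G) := ⟨⟨fun u v => Subtype.ext
      (Subgroup.mem_centralizer_iff.1 (hle (Subgroup.le_normalizer v.2)) u u.2)⟩⟩
    refine MonoidHom.not_dvd_card_ker_transferSylow S hle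
      (hd.trans (Subgroup.card_dvd_of_le ?_))
    open scoped IsMulCommutative in exact Abelianization.commutator_subset_ker _
  have h1 := key g hcon.1
  have h2 := key l hcon.2
  have h3 : ({x : G | x ≠ 1} : Set G).ncard + 1 = Nat.card G := by
    rw [show ({x : G | x ≠ 1} : Set G) = ({1} : Set G)ᶜ from rfl, ← Set.ncard_add_ncard_compl ({1} : Set G),
      Set.ncard_singleton, add_comm]
  have h4 : ({x : G | x ≠ 1} : Set G).ncard ≤
      {x : G | x ≠ 1 ∧ ¬ g ∣ idx x}.ncard + {x : G | x ≠ 1 ∧ ¬ l ∣ idx x}.ncard :=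
    (Set.ncard_le_ncard fun x hx => (hcov x hx).elim (fun h => Or.inl ⟨hx, h⟩)
      fun h => Or.inr ⟨hx, h⟩).trans (Set.ncard_union_le _ _)
  omega

/-- Three sizes with one centralizer inside another force solvability. -/
theorem isSolvable_of_nest (hZ : Subgroup.center G = ⊥)
    (hthree : ∀ a b c : G, a ≠ 1 → b ≠ 1 → c ≠ 1 → idx a ≠ idx b → idx a ≠ idx c → idx b ≠ idx c →
      ∀ x : G, x ≠ 1 → idx x = idx a ∨ idx x = idx b ∨ idx x = idx c)
    {a y₀ : G} (ha : a ≠ 1) (hy₀ : y₀ ≠ 1) (hlt₀ : cen a < cen y₀) : Group.IsSolvable G := by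
  have hne1 : ∀ x : G, x ≠ 1 → idx x ≠ 1 := fun x hx h => hx (by
    have : x ∈ Subgroup.center G := Subgroup.mem_center_iff.2 fun g =>
      mem_cen.1 ((Subgroup.index_eq_one.1 h).ge (Subgroup.mem_top g))
    rwa [hZ, Subgroup.mem_bot] at this)
  obtain ⟨p, hp, -, i, hi⟩ := CfsgLib.CN.exists_prime_power hy₀
  set y := y₀ ^ i with hy
  have hy1 : y ≠ 1 := fun e => hp.ne_one (by rw [← hi, e, orderOf_one])
  have hyp : (orderOf y).Prime := hi ▸ hp
  have hlt : cen a < cen y := hlt₀.trans_le (cen_le_cen_pow y₀ i)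
  have hn21 : idx y < idx a := Subgroup.index_strictAnti hlt
  have hd21 : idx y ∣ idx a := idx_dvd_of_le hlt.le
  -- the third size
  obtain ⟨w₀, hw₀, hw0a, hw0y⟩ : ∃ w : G, w ≠ 1 ∧ idx w ≠ idx a ∧ idx w ≠ idx y := by
    obtain ⟨r, hr, hrd⟩ := Nat.exists_prime_and_dvd (hne1 y hy1)
    haveI := Fact.mk hr
    obtain ⟨z, hz, -, hzd⟩ := exists_central_in_sylow (R := (⊥ : Subgroup G)) IsPGroup.of_bot
      (hrd.trans (Subgroup.index_dvd_card _))
    exact ⟨z, fun e => hr.ne_one (by rw [← hz, e, orderOf_one]), fun e => hzd (e ▸ hrd.trans hd21),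
      fun e => hzd (e ▸ hrd)⟩
  have hall0 := hthree a y w₀ ha hy1 hw₀ hn21.ne' hw0a.symm hw0y.symm
  have hcop0 : (idx y).Coprime (idx w₀) := by
    by_contra hc
    obtain ⟨r, hr, hry, hrw⟩ := Nat.Prime.not_coprime_iff_dvd.1 hc
    haveI := Fact.mk hr
    obtain ⟨z, hz, -, hzd⟩ := exists_central_in_sylow (R := (⊥ : Subgroup G)) IsPGroup.of_bot
      (hry.trans (Subgroup.index_dvd_card _))
    rcases hall0 z (fun e => hr.ne_one (by rw [← hz, e, orderOf_one])) with e | e | e <;> rw [e] at hzd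
    · exact hzd (hry.trans hd21)
    · exact hzd hry
    · exact hzd hrw
  obtain ⟨q, hq, -, j, hj⟩ := CfsgLib.CN.exists_prime_power hw₀
  set w := w₀ ^ j with hw
  have hw1 : w ≠ 1 := fun e => hq.ne_one (by rw [← hj, e, orderOf_one])
  have hwq : (orderOf w).Prime := hj ▸ hq
  have ew : idx w = idx w₀ := by
    have hd : idx w ∣ idx w₀ := idx_dvd_of_le (cen_le_cen_pow w₀ j)
    rcases hall0 w hw1 with e | e | e
    · exact absurd (Nat.eq_one_of_dvd_coprimes hcop0 dvd_rfl (hd21.trans (e ▸ hd))) (hne1 y hy1)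
    · exact absurd (Nat.eq_one_of_dvd_coprimes hcop0 dvd_rfl (e ▸ hd)) (hne1 y hy1)
    · exact e
  rw [← ew] at hw0a hw0y hcop0 hall0
  -- the sizes
  have hsz2 : ∀ x : G, x ≠ 1 → idx y ∣ idx x → idx x = idx y ∨ idx x = idx a := fun x hx hd => by
    rcases hall0 x hx with e | e | e
    · exact Or.inr e
    · exact Or.inl e
    · exact absurd (Nat.eq_one_of_dvd_coprimes hcop0 dvd_rfl (e ▸ hd)) (hne1 y hy1)
  have hdn2 : ∀ x : G, x ≠ 1 → idx x ∣ idx y → idx x = idx y := fun x hx hd => by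
    rcases hall0 x hx with e | e | e
    · exact absurd (Nat.le_of_dvd (Nat.pos_of_ne_zero (idx_ne_zero y)) (e ▸ hd)) (not_le.2 hn21)
    · exact e
    · exact absurd (Nat.eq_one_of_dvd_coprimes hcop0 (e ▸ hd) dvd_rfl) (hne1 w hw1)
  have hsz3 : ∀ x : G, x ≠ 1 → idx w ∣ idx x → idx x = idx w ∨ idx x = idx a := fun x hx hd => by
    rcases hall0 x hx with e | e | e
    · exact Or.inr e
    · exact absurd (Nat.eq_one_of_dvd_coprimes hcop0 (e ▸ hd) dvd_rfl) (hne1 w hw1)
    · exact Or.inl e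
  have hdn3 : ∀ x : G, x ≠ 1 → idx x ∣ idx w → idx x = idx w := fun x hx hd => by
    rcases hall0 x hx with e | e | e
    · exact absurd (Nat.eq_one_of_dvd_coprimes hcop0 dvd_rfl (hd21.trans (e ▸ hd))) (hne1 y hy1)
    · exact absurd (Nat.eq_one_of_dvd_coprimes hcop0 dvd_rfl (e ▸ hd)) (hne1 y hy1)
    · exact e
  have hna : ¬ IsMulCommutative (cen y) := fun hc => hlt.not_ge fun v hv => mem_cen.2
    (congrArg Subtype.val (hc.is_comm.comm (⟨v, hv⟩ : cen y) ⟨a, hlt.le (mem_cen.2 rfl)⟩))
  obtain ⟨s, hs, hsb⟩ := exists_prime_bound hd21 hn21 hsz2 hdn2 rfl hyp rfl hna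
  have hcop3 : ∀ r : ℕ, r.Prime → r ∣ idx w → ¬ r ∣ idx y := fun r hr h3 h2 =>
    hr.ne_one (Nat.eq_one_of_dvd_coprimes hcop0 h2 h3)
  by_cases h31 : idx w ∣ idx a
  · -- the third size divides the first
    have hspow : ∃ k, idx w = s ^ k := ⟨_, Nat.eq_prime_pow_of_unique_prime_dvd (idx_ne_zero w)
      fun {d} hd hdd => (hsb d hd (hdd.trans h31)).resolve_left (hcop3 d hd hdd)⟩
    by_cases hwa : IsMulCommutative (cen w)
    · haveI := hwa
      letI : CommGroup (cen w) := { (inferInstance : Group (cen w)) with mul_comm := fun a b => mul_comm' a b }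
      exact isSolvable_of_nilpotent_index hs (cen w) CommGroup.isNilpotent hspow
    have hlt3 : idx w < idx a :=
      lt_of_le_of_ne (Nat.le_of_dvd (Nat.pos_of_ne_zero (idx_ne_zero a)) h31) hw0a
    obtain ⟨t, ht, htb⟩ := exists_prime_bound h31 hlt3 hsz3 hdn3 rfl hwq rfl hwa
    obtain ⟨k, hk⟩ := hspow
    have htwo : ∀ l : ℕ, l.Prime → l ∣ Nat.card G → l = s ∨ l = t := by
      intro l hl hlG
      by_contra hne
      push Not at hne
      have hla : ¬ l ∣ idx a := fun h => by
        rcases htb l hl h with h' | h'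
        · exact hne.1 ((Nat.prime_dvd_prime_iff_eq hl hs).1 (hl.dvd_of_dvd_pow (hk ▸ h')))
        · exact hne.2 h'
      obtain ⟨g, hg, hgd⟩ := exists_dvd_idx hZ hl hlG
      refine hla (hgd.trans ?_)
      rcases hall0 g hg with e | e | e <;> rw [e]
      exacts [hd21, h31]
    refine CfsgLib.ThreeSizes.isSolvable_of_two_primes hs ht fun r hr x hx hxZ => htwo r hr ?_
    obtain ⟨c, hc⟩ := hx
    by_contra hnd
    have hx1 : x = 1 := orderOf_eq_one_iff.1 (Nat.eq_one_of_dvd_coprimes
      ((hr.coprime_iff_not_dvd.2 hnd).pow_left c) (orderOf_dvd_of_pow_eq_one hc) (orderOf_dvd_natCard x))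
    exact hxZ (hx1 ▸ one_mem _)
  · -- the third size does not divide the first
    have hnil : Group.IsNilpotent (cen w) := isNilpotent_of_regular_central hwq fun u hu => by
      have hco : (orderOf w).Coprime (orderOf (u : G)) := by rw [Subgroup.orderOf_coe]; exact hu.symm
      have e := idx_mul_eq hco
      have hne : w * (u : G) ≠ 1 :=
        CfsgLib.RankThree.mul_ne_one_of_coprime (mem_cen.1 u.2).symm hco hw1
      have h := (hsz3 _ hne (e ▸ dvd_mul_left _ _)).resolve_right fun h => h31 (h ▸ e ▸ dvd_mul_left _ _)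
      rw [e] at h
      have h1 : idx u = 1 :=
        Nat.eq_of_mul_eq_mul_right (Nat.pos_of_ne_zero (idx_ne_zero w)) (h.trans (one_mul _).symm)
      exact Subgroup.mem_center_iff.2 fun v => mem_cen.1 ((Subgroup.index_eq_one.1 h1).ge (Subgroup.mem_top v))
    by_contra hns
    have hns' : ¬ Group.IsSolvable (commutator G) := fun h => hns (isSolvable_of_solvable_quotient _ h
      (Group.isSolvable_of_comm fun a b => mul_comm (G := Abelianization G) a b))
    by_cases hy2 : ∀ r : ℕ, r.Prime → r ∣ idx y → ¬ r ∣ Nat.card (commutator G)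
    · -- the derived subgroup lies in the centralizer of `y`
      refine hns' ?_
      have hrel : (cen y).relIndex (commutator G) = 1 := by
        by_contra hne
        obtain ⟨r, hr, hd⟩ := Nat.exists_prime_and_dvd hne
        exact hy2 r hr (hd.trans (CfsgLib.PCompl.relIndex_dvd_index_of_normal _ _))
          (hd.trans (Subgroup.index_dvd_card _))
      haveI := isSolvable_cen hd21 hsz2 hyp rfl
      exact Group.isSolvable_of_isSolvable_injective
        (Subgroup.inclusion_injective (Subgroup.relIndex_eq_one.1 hrel))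
    push Not at hy2
    obtain ⟨l, hl, hly, hlD⟩ := hy2
    refine hns' (isSolvable_of_nilpotent_index hs ((cen w).subgroupOf (commutator G)) ?_ ?_)
    · let f : (cen w).subgroupOf (commutator G) →* cen w :=
        { toFun := fun a => ⟨((a : commutator G) : G), a.2⟩, map_one' := rfl, map_mul' := fun _ _ => rfl }
      have hf : f.ker = ⊥ := (MonoidHom.ker_eq_bot_iff f).2 fun a b e =>
        Subtype.ext (Subtype.ext (congrArg (fun z : cen w => (z : G)) e :))
      haveI := hnil
      exact Subgroup.isNilpotent_of_ker_le_center f (hf ▸ bot_le)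
    refine ⟨_, Nat.eq_prime_pow_of_unique_prime_dvd (cen w |>.subgroupOf (commutator G)).index_ne_zero_of_finite
      fun {r} hr hrd => ?_⟩
    by_contra hrs
    have hrw : r ∣ idx w := hrd.trans (CfsgLib.PCompl.relIndex_dvd_index_of_normal _ _)
    have hra : ¬ r ∣ idx a := fun h => (hsb r hr h).elim (hcop3 r hr hrw) hrs
    have hrD : r ∣ Nat.card (commutator G) := hrd.trans (Subgroup.index_dvd_card _)
    refine (not_dvd_commutator hr hl fun x hx => ?_).elim (fun h => h hrD) fun h => h hlD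
    rcases hall0 x hx with e | e | e <;> rw [e]
    · exact Or.inl hra
    · exact Or.inl (hcop3 r hr hrw)
    · exact Or.inr fun h => hcop3 l hl h hly

end CfsgLib.RankFour
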